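import Groth.Prelude.Def_DescFam
import Mathlib.AlgebraicGeometry.Sites.Fpqc

/-! Gluing of morphisms of descent data along fpqc covering sieves. -/

set_option autoImplicit false
set_option backward.isDefEq.respectTransparency false
set_option backward.isDefEq.respectTransparency.types false

universe u

open CategoryTheory CategoryTheory.Limits AlgebraicGeometry Desc

namespace GrothLib.DDFull

theorem hom_ext {Z W : Scheme.{u}} {R : Sieve Z} (hR : R ∈ Scheme.fpqcTopology Z) {p q : Z ⟶ W}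
    (h : ∀ ⦃T : Scheme.{u}⦄ (k : T ⟶ Z), R k → k ≫ p = k ≫ q) : p = q :=
  ((GrothendieckTopology.Subcanonical.isSheaf_of_isRepresentable (J := Scheme.fpqcTopology) (yoneda.obj W))
    R hR).isSeparatedFor.ext h

/-- Gluing from a functional relation on a covering sieve. -/
theorem exists_glue {Z W : Scheme.{u}} {R : Sieve Z} (hR : R ∈ Scheme.fpqcTopology Z)
    (rel : ∀ ⦃T : Scheme.{u}⦄, (T ⟶ Z) → (T ⟶ W) → Prop)
    (total : ∀ ⦃T : Scheme.{u}⦄ (h : T ⟶ Z), R h → ∃ w, rel h w)
    (sound : ∀ ⦃T : Scheme.{u}⦄ (h : T ⟶ Z) (w : T ⟶ W), rel h w → R h)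
    (func : ∀ ⦃T : Scheme.{u}⦄ (h : T ⟶ Z) (w w' : T ⟶ W), rel h w → rel h w' → w = w')
    (nat : ∀ ⦃T T' : Scheme.{u}⦄ (k : T' ⟶ T) (h : T ⟶ Z) (w : T ⟶ W), rel h w → rel (k ≫ h) (k ≫ w)) :
    ∃ c : Z ⟶ W, ∀ ⦃T : Scheme.{u}⦄ (h : T ⟶ Z) (w : T ⟶ W), rel h w → h ≫ c = w := by
  classical
  choose w hw using fun T h hh => total (T := T) h hh
  let x : Presieve.FamilyOfElements (yoneda.obj W) R.arrows := fun T h hh => w T h hh
  have hx : x.Compatible := by
    refine Presieve.compatible_iff_sieveCompatible _ |>.2 ?_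
    intro T T' h k hh
    exact func _ _ _ (hw _ _ _) (nat k h _ (hw _ _ hh))
  have hs := (GrothendieckTopology.Subcanonical.isSheaf_of_isRepresentable (J := Scheme.fpqcTopology) (yoneda.obj W)) R hR
  refine ⟨hs.amalgamate x hx, fun T h v hv => ?_⟩
  have hh := sound h v hv
  exact (hs.valid_glue hx h hh).trans (func h _ _ (hw _ _ hh) hv)

theorem ofArrows_mem {S : Scheme.{u}} {ι : Type u} {X : ι → Scheme.{u}} {f : ∀ i, X i ⟶ S}
    (hf : Presieve.ofArrows X f ∈ Scheme.fpqcPrecoverage S) : Sieve.ofArrows X f ∈ Scheme.fpqcTopology S :=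
  Precoverage.generate_mem_toGrothendieck hf

section toDD

variable {S : Scheme.{u}} {ι : Type u} {X : ι → Scheme.{u}} {f : ∀ i, X i ⟶ S}

theorem toDDFam_full_faithful (hf : Sieve.ofArrows X f ∈ Scheme.fpqcTopology S) :
    (toDDFam f).Full ∧ (toDDFam f).Faithful := by
  have hR : ∀ U : Over S, (Sieve.ofArrows X f).pullback U.hom ∈ Scheme.fpqcTopology U.left :=
    fun U => (Scheme.fpqcTopology).pullback_stable U.hom hf
  refine ⟨⟨fun {U U'} b => ?_⟩, ⟨fun {U U'} g g' hgg => ?_⟩⟩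
  · let rel : ∀ ⦃T : Scheme.{u}⦄, (T ⟶ U.left) → (T ⟶ U'.left) → Prop := fun T h w =>
      ∃ (i : ι) (x : T ⟶ X i) (e : x ≫ f i = h ≫ U.hom),
        w = pullback.lift x h e ≫ (b.hom i).left ≫ pullback.snd (f i) U'.hom
    obtain ⟨c, hc⟩ := exists_glue (hR U) rel (fun T h hh => by
        obtain ⟨i, x, e⟩ := (Sieve.mem_ofArrows_iff _ _ _).1 hh
        exact ⟨_, i, x, e.symm, rfl⟩)
      (fun T h w ⟨i, x, e, _⟩ => (Sieve.mem_ofArrows_iff _ _ _).2 ⟨i, x, e.symm⟩)
      (by
        rintro T h w w' ⟨i, x, e, rfl⟩ ⟨j, y, e', rfl⟩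
        let v : Lifts (((toDDFam f).obj U).obj i) x := ⟨pullback.lift x h e, pullback.lift_fst _ _ _⟩
        have h1 := b.comm x y (e.trans e'.symm) v (b.push v) rfl
        have h2 := congrArg (· ≫ pullback.snd (f j) U'.hom) h1
        simp only [toDDFam, canonicalDDFam, SchDDFam.Hom.push, v] at h2
        simp only [Equiv.coe_fn_mk, canMapFam_val, pullback.lift_snd, Category.assoc] at h2
        exact h2)
      (by
        rintro T T' k h w ⟨i, x, e, rfl⟩
        refine ⟨i, k ≫ x, by rw [Category.assoc, e, Category.assoc], ?_⟩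
        rw [← Category.assoc k]
        congr 1
        exact pullback.hom_ext (by simp) (by simp))
    have hw : c ≫ U'.hom = U.hom := by
      refine hom_ext (hR U) fun T h hh => ?_
      obtain ⟨i, x, e⟩ := (Sieve.mem_ofArrows_iff _ _ _).1 hh
      rw [← Category.assoc, hc h _ ⟨i, x, e.symm, rfl⟩, Category.assoc, Category.assoc, ← pullback.condition,
        ← Category.assoc (b.hom i).left, show (b.hom i).left ≫ pullback.fst (f i) U'.hom = pullback.fst (f i) U.hom from Over.w (b.hom i),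
        pullback.lift_fst_assoc, e]
    refine ⟨Over.homMk c hw, SchDDFam.hom_ext (funext fun i => Over.OverMorphism.ext (pullback.hom_ext ?_ ?_))⟩
    · exact (Over.w (((toDDFam f).map (Over.homMk c hw)).hom i)).trans (Over.w (b.hom i)).symm
    · refine Eq.trans (pullback.lift_snd _ _ _) ?_
      change pullback.snd (f i) U.hom ≫ c = (b.hom i).left ≫ pullback.snd (f i) U'.hom
      refine (hc _ _ ⟨i, pullback.fst _ _, pullback.condition, rfl⟩).trans ?_
      rw [show pullback.lift (pullback.fst (f i) U.hom) (pullback.snd (f i) U.hom) pullback.condition = 𝟙 _ from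
        pullback.hom_ext (by simp) (by simp), Category.id_comp]
  · apply Over.OverMorphism.ext
    refine hom_ext (hR U) fun T h hh => ?_
    obtain ⟨i, x, e⟩ := (Sieve.mem_ofArrows_iff _ _ _).1 hh
    have := congrArg (fun m => pullback.lift x h e.symm ≫ m.left ≫ pullback.snd (f i) U'.hom) (congrFun (congrArg SchDDFam.Hom.hom hgg) i)
    simpa [toDDFam] using this

theorem toDD_full {X S : Scheme.{u}} (p : X ⟶ S)
    (hp : Sieve.ofArrows (fun _ : PUnit.{u + 1} => X) (fun _ => p) ∈ Scheme.fpqcTopology S) :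
    (toDD p).Full := by
  refine ⟨fun {U U'} b => ?_⟩
  obtain ⟨hfull, -⟩ := toDDFam_full_faithful hp
  let b' : (toDDFam fun _ : PUnit.{u + 1} => p).obj U ⟶ (toDDFam fun _ : PUnit.{u + 1} => p).obj U' :=
    ⟨fun _ => b.hom, fun T i j x₀ x₁ h v w hw => b.comm x₀ x₁ h v w hw⟩
  obtain ⟨g, hg⟩ := hfull.map_surjective b'
  refine ⟨g, SchDD.Hom.ext ?_⟩
  exact congrFun (congrArg SchDDFam.Hom.hom hg) PUnit.unit

end toDD

end GrothLib.DDFull
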